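import Cfsg.Agent.H359.CT.McLCnt

/-!
# The degrees of the irreducible characters of `McL` (helper517)

From the complete character table of helper359 (`H359/CT/McLCnt.tab`).
-/

set_option autoImplicit false
set_option maxRecDepth 100000

namespace Cfsg.Agent.H517.S8.McLDeg

open Cfsg Cfsg.Agent.H359.CT Cfsg.Agent.H359.CT.McL Cfsg.Agent.H447.CTab Cfsg.Agent.Characters.Core

universe u

/-- the 17 degrees -/
def degs : List ℕ :=
  [1, 22, 231, 252, 770, 896, 1750, 3520, 4500, 4752, 5103, 5544, 8019, 8250, 9625, 9856, 10395]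

theorem finite_of {X : Type u} [Group X] (h : Spor.IsoMcL X) : Finite X := by
  obtain ⟨e⟩ := exists_e h
  refine Nat.finite_of_card_ne_zero ?_
  rw [Nat.card_congr e.toEquiv, Cfsg.Agent.H359.CT.McL.card_K0]
  norm_num

theorem hdeg {X : Type u} [Group X] [Finite X] (h : Spor.IsoMcL X) (n : ℕ) :
    n ∈ charDegrees X ↔ (∃ a : Fin 12, dR a = n) ∨ ∃ b : Fin 6, dP b = n := by
  obtain ⟨e⟩ := exists_e h
  obtain ⟨χ, ψ, hχ, hψ, -, hbij⟩ := (tab e).exists_irr
  have h1 : ∀ a, charDegree (χ a : X → ℂ) = dR a := fun a => by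
    rw [← hdR a]
    exact Table.degree_eq (by rw [← (tab e).hi0]; exact hχ a 0)
  have h2 : ∀ p : Fin 6 × Bool, charDegree ((if p.2 then ψ p.1 else cj (ψ p.1) : IrrCharacter X) : X → ℂ) =
      dP p.1 := by
    rintro ⟨b, s⟩
    obtain ⟨d, -, hd⟩ := isIrr_apply_one (ψ b).2
    have hd' : (cj (ψ b) : X → ℂ) 1 = d := by
      show (starRingEnd ℂ) ((ψ b : X → ℂ) 1) = d
      rw [hd, Complex.conj_natCast]
    have h3 := hψ b (tab e).i0
    rw [(tab e).hi0, hd, hd'] at h3
    have h4 : (d : ℤ) + (d : ℤ) = P b (rc 0) := by exact_mod_cast h3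
    have h5 : ((if s then ψ b else cj (ψ b) : IrrCharacter X) : X → ℂ) 1 = ((d : ℤ) : ℂ) := by
      rcases s with _ | _
      · exact hd'
      · exact hd
    rw [Table.degree_eq h5, ← hdP b]
    show _ = (P b (rc 0)).toNat / 2
    rw [← h4]
    omega
  constructor
  · rintro ⟨η, hη⟩
    obtain ⟨z, rfl⟩ := hbij.2 η
    rcases z with a | p
    · exact Or.inl ⟨a, (h1 a).symm.trans hη⟩
    · exact Or.inr ⟨p.1, (h2 p).symm.trans hη⟩
  · rintro (⟨a, rfl⟩ | ⟨b, rfl⟩)
    · exact ⟨χ a, h1 a⟩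
    · exact ⟨ψ b, h2 (b, true)⟩

theorem chk1 : ∀ a : Fin 12, dR a ∈ degs := by decide +kernel

theorem chk2 : ∀ b : Fin 6, dP b ∈ degs := by decide +kernel

theorem chk3 : ∀ n ∈ degs, (∃ a : Fin 12, dR a = n) ∨ ∃ b : Fin 6, dP b = n := by decide +kernel

/-- **The degrees of `McL`** -/
theorem mem_iff {X : Type u} [Group X] [Finite X] (h : Spor.IsoMcL X) (n : ℕ) : n ∈ charDegrees X ↔ n ∈ degs := by
  rw [hdeg h]
  constructor
  · rintro (⟨a, rfl⟩ | ⟨b, rfl⟩)
    · exact chk1 a
    · exact chk2 b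
  · exact chk3 n

/-- **The set of degrees of `McL`** -/
theorem charDegrees_McL {X : Type u} [Group X] [Finite X] (h : Spor.IsoMcL X) :
    charDegrees X = {1, 22, 231, 252, 770, 896, 1750, 3520, 4500, 4752, 5103, 5544, 8019, 8250, 9625, 9856, 10395} := by
  ext n
  rw [mem_iff h]
  simp [degs]

theorem chk5 : ∀ a a' : Fin 12, a ≠ a' → dR a = dR a' →
    dR a ∈ ([770, 896, 3520, 8019, 8250, 9856, 10395] : List ℕ) := by decide +kernel

theorem chk6 : ∀ (a : Fin 12) (b : Fin 6), dR a ≠ dP b := by decide +kernel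

theorem chk7 : ∀ b : Fin 6, dP b ∈ ([770, 896, 3520, 8019, 8250, 9856, 10395] : List ℕ) := by decide +kernel

/-- the number of irreducible characters of a degree is one, except for `3520` and the six degrees of the non-real
characters: **a degree shared by two different irreducible characters** -/
theorem two_of_degree {X : Type u} [Group X] [Finite X] (h : Spor.IsoMcL X) {χ χ' : IrrCharacter X} (hne : χ ≠ χ')
    (hd : charDegree (χ : X → ℂ) = charDegree (χ' : X → ℂ)) :
    charDegree (χ : X → ℂ) ∈ ([770, 896, 3520, 8019, 8250, 9856, 10395] : List ℕ) := by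
  obtain ⟨e⟩ := exists_e h
  obtain ⟨ρ, ψ, hρ, hψ, -, hbij⟩ := (tab e).exists_irr
  have h1 : ∀ a, charDegree (ρ a : X → ℂ) = dR a := fun a => by
    rw [← hdR a]
    exact Table.degree_eq (by rw [← (tab e).hi0]; exact hρ a 0)
  have h2 : ∀ p : Fin 6 × Bool, charDegree ((if p.2 then ψ p.1 else cj (ψ p.1) : IrrCharacter X) : X → ℂ) =
      dP p.1 := by
    rintro ⟨b, s⟩
    obtain ⟨d, -, hd⟩ := isIrr_apply_one (ψ b).2
    have hd' : (cj (ψ b) : X → ℂ) 1 = d := by
      show (starRingEnd ℂ) ((ψ b : X → ℂ) 1) = d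
      rw [hd, Complex.conj_natCast]
    have h3 := hψ b (tab e).i0
    rw [(tab e).hi0, hd, hd'] at h3
    have h4 : (d : ℤ) + (d : ℤ) = P b (rc 0) := by exact_mod_cast h3
    have h5 : ((if s then ψ b else cj (ψ b) : IrrCharacter X) : X → ℂ) 1 = ((d : ℤ) : ℂ) := by
      rcases s with _ | _
      · exact hd'
      · exact hd
    rw [Table.degree_eq h5, ← hdP b]
    show _ = (P b (rc 0)).toNat / 2
    rw [← h4]
    omega
  obtain ⟨z, rfl⟩ := hbij.2 χ
  obtain ⟨z', rfl⟩ := hbij.2 χ'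
  have hz : z ≠ z' := fun hz => hne (by rw [hz])
  rcases z with a | p
  · rcases z' with a' | p'
    · have h3 : dR a = dR a' := (h1 a).symm.trans (hd.trans (h1 a'))
      have h4 : charDegree ((Sum.elim ρ (fun p : Fin 6 × Bool => if p.2 then ψ p.1 else cj (ψ p.1)) (Sum.inl a) :
          IrrCharacter X) : X → ℂ) = dR a := h1 a
      rw [h4]
      exact chk5 a a' (fun h => hz (by rw [h])) h3
    · exact absurd ((h1 a).symm.trans (hd.trans (h2 p'))) (chk6 a p'.1)
  · have h4 : charDegree ((Sum.elim ρ (fun p : Fin 6 × Bool => if p.2 then ψ p.1 else cj (ψ p.1)) (Sum.inr p) :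
        IrrCharacter X) : X → ℂ) = dP p.1 := h2 p
    rw [h4]
    exact chk7 p.1

/-- the number of classes -/
theorem card_classes {X : Type u} [Group X] [Finite X] (h : Spor.IsoMcL X) : Nat.card (ConjClasses X) = 24 := by
  obtain ⟨e⟩ := exists_e h
  exact (clT e).card_classes

theorem card_McL {X : Type u} [Group X] [Finite X] (h : Spor.IsoMcL X) : Nat.card X = 898128000 := by
  obtain ⟨e⟩ := exists_e h
  exact card_G e

end Cfsg.Agent.H517.S8.McLDeg
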