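import Cfsg.Agent.H517.S8.McLDeg
import Cfsg.Agent.H41.McLTwo.Cliff
import Cfsg.Agent.H41.McLTwo.Elts
import Cfsg.Agent.H55.OutGen
import Cfsg.Agent.H424.DegTools
import Cfsg.Agent.Characters.GaloisIrr
import Cfsg.Agent.S2073
import Cfsg.Agent.Schreier.McLaughlin
import Cfsg.Agent.H704.S8.Defs3

/-!
# S4908, the row OUT of `McL` (helper517)

An outer automorphism maps an element of order `7` to its inverse, which is not conjugate to it in `McL`; so it moves an
irreducible character, of degree `f`, and `2 f` is a degree of `Aut McL` but not of `McL`.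
-/

set_option autoImplicit false

namespace Cfsg.Agent.H517.S8.McLOut

open Cfsg Cfsg.Agent.H359.CT Cfsg.Agent.H359.CT.McL Cfsg.Agent.H447.CTab Cfsg.Agent.Characters.Core
open Cfsg.Agent.H41.McLTwo Cfsg.Agent.H41.McLTwo.Ords Cfsg.Agent.H41.McLTwo.Cliff Cfsg.Agent.H424.DegTools

universe u

theorem chk7 : ∀ i : Fin 24, os i = 7 → realB i = false := by decide +kernel

theorem chk_two : ∀ n ∈ McLDeg.degs, 2 * n ∉ McLDeg.degs := by decide +kernel

/-- the elements of order seven are not real -/
theorem not_real {X : Type u} [Group X] [Finite X] (h : Spor.IsoMcL X) {y : X} (hy : orderOf y = 7) :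
    ¬ IsConj y y⁻¹ := by
  obtain ⟨e⟩ := exists_e h
  obtain ⟨i, hi⟩ := (clT e).cover y
  have h1 : orderOf y = os i := by
    rw [← order_x e i]
    exact (orderOf_isConj hi).symm
  have h2 := hreal e i (chk7 i (h1.symm.trans hy))
  intro h3
  apply h2
  obtain ⟨c, rfl⟩ := isConj_iff.1 hi
  have h4 : IsConj ((clT e).x i)⁻¹ (c * (clT e).x i * c⁻¹)⁻¹ := isConj_iff.2 ⟨c, by group⟩
  exact hi.trans (h3.trans h4.symm)

theorem index_two {X : Type u} [Group X] [Finite X] (h : Spor.IsoMcL X) :
    (MulAut.conj : X →* MulAut X).range.index = 2 := by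
  obtain ⟨e⟩ := h
  rw [← H55.OutGen.card_out_eq_index, H55.OutGen.card_out_congr e]
  exact S2073.result

theorem conj_injective {X : Type u} [Group X] [Finite X] (h : Spor.IsoMcL X) :
    Function.Injective (MulAut.conj : X →* MulAut X) := by
  have hs : IsSimpleGroup X := by
    obtain ⟨e⟩ := h
    have := Cfsg.Agent.Schreier.McLaughlin.isSimple_mcl
    exact e.isSimpleGroup
  rw [← MonoidHom.ker_eq_bot_iff]
  refine (hs.eq_bot_or_eq_top_of_normal _ (MonoidHom.normal_ker _)).resolve_right fun htop => ?_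
  have hcomm : ∀ a b : X, a * b = b * a := by
    intro a b
    have h1 : a ∈ (MulAut.conj : X →* MulAut X).ker := by rw [htop]; trivial
    have h2 : MulAut.conj a b = b := by rw [MonoidHom.mem_ker.1 h1]; rfl
    rw [MulAut.conj_apply, mul_inv_eq_iff_eq_mul] at h2
    exact h2
  let _ : CommGroup X := { (inferInstance : Group X) with mul_comm := hcomm }
  have h1 : (Nat.card X).Prime := IsSimpleGroup.prime_card
  rw [McLDeg.card_McL h] at h1
  norm_num at h1

/-- **An outer automorphism moves a character**: a degree `f` of `McL` with `2 f` a degree of the automorphism group -/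
theorem exists_two {X : Type u} [Group X] [Finite X] (h : Spor.IsoMcL X) :
    ∃ f ∈ charDegrees X, 2 * f ∈ charDegrees (MulAut X) := by
  classical
  obtain ⟨y, hy, hα⟩ := inv_of_iso h (n := 7) (Or.inl rfl)
  have hnr := not_real h hy
  have hinj := conj_injective h
  have hnorm : (MulAut.conj : X →* MulAut X).range.Normal := by
    constructor
    rintro _ ⟨x, rfl⟩ g
    exact ⟨g x, by ext y; simp [MulAut.conj_apply]⟩
  let E : X ≃* (MulAut.conj : X →* MulAut X).range := MonoidHom.ofInjective hinj
  have hN := index_two h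
  obtain ⟨χ, hχ, hne⟩ : ∃ χ : X → ℂ, IsIrrCharacter X χ ∧ χ y ≠ χ y⁻¹ := by
    by_contra hcon
    push Not at hcon
    exact hnr (Cfsg.Agent.Characters.GaloisIrr.isConj_of_forall_irr hcon)
  let ψ : IrrCharacter (MulAut.conj : X →* MulAut X).range :=
    ⟨_, isIrr_comp E.symm.toMonoidHom E.symm.surjective hχ⟩
  have hψ : ∀ x : X, (ψ : (MulAut.conj : X →* MulAut X).range → ℂ) (E x) = χ x := fun x => by
    show χ (E.symm (E x)) = χ x
    rw [MulEquiv.symm_apply_apply]
  obtain ⟨α, hαN⟩ : ∃ α : MulAut X, α ∉ (MulAut.conj : X →* MulAut X).range := by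
    by_contra hcon
    push Not at hcon
    have : (MulAut.conj : X →* MulAut X).range = ⊤ := by ext x; simp [hcon x]
    rw [this, Subgroup.index_top] at hN
    exact absurd hN (by norm_num)
  have hni : ¬ Inv (MulAut.conj : X →* MulAut X).range ψ := by
    intro hinv
    have h1 := congrFun (hinv α) (E y)
    have h2 : (MulAut.conjNormal α : MulAut (MulAut.conj : X →* MulAut X).range) (E y) = E (α y) := by
      apply Subtype.ext
      rw [MulAut.conjNormal_apply]
      show α * MulAut.conj y * α⁻¹ = MulAut.conj (α y)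
      ext z
      simp [MulAut.conj_apply]
    rw [Function.comp_apply, h2, hψ, hψ] at h1
    have h3 := hα α fun ⟨s, hs⟩ => hαN ⟨s, hs.symm⟩
    obtain ⟨c, hc⟩ := isConj_iff.1 h3
    apply hne
    rw [← hc, isIrr_isClassFunction hχ, h1]
  have : Finite (MulAut X) := inferInstance
  have := Fintype.ofFinite (MulAut X)
  have := Fintype.ofFinite (MulAut.conj : X →* MulAut X).range
  obtain ⟨η, hη, -, -⟩ := moved hN hni
  obtain ⟨η1, -, -, -, -, h1, -⟩ := two_of_van hN hη
  refine ⟨charDegree (η1 : (MulAut.conj : X →* MulAut X).range → ℂ), ?_, η, ?_⟩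
  · rw [charDegrees_congr E]
    exact ⟨η1, rfl⟩
  · exact charDegree_two η1.2 h1

/-- **OUT of `McL`** -/
theorem ne_aut {X : Type u} [Group X] [Finite X] (h : Spor.IsoMcL X) : charDegrees X ≠ charDegrees (MulAut X) := by
  intro heq
  obtain ⟨f, h1, h2⟩ := exists_two h
  rw [← heq, McLDeg.mem_iff h] at h2
  exact chk_two f ((McLDeg.mem_iff h f).1 h1) h2

theorem out {X : Type u} [Group X] [Finite X] (h : Spor.IsoMcL X) : Cfsg.Agent.H704.S8.OutRow3 2 X :=
  ⟨(index_two h).le, fun _ => ne_aut h⟩

end Cfsg.Agent.H517.S8.McLOut
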